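import Cfsg.Agent.Spor.An9.S.D0

set_option autoImplicit false
set_option maxRecDepth 100000000
set_option Elab.async false

namespace Cfsg.Agent.Spor.An9.S

theorem gr3 : sub 0x1fe (U.growI W2 [0, 1, 2, 3, 4, 5, 0] (Nat.shiftLeft 1 1)) = true := by decide +kernel

theorem sd5 : U.sends [13] 0 1 = true := by decide +kernel

theorem gr6 : sub (ones 9) (U.growI ([13] :: W2) [0, 1, 2, 3, 4, 5, 6, 1] (Nat.shiftLeft 1 0)) = true := by decide +kernel

theorem ff8 : U.fixFrom 4 9 1 = true := by decide +kernel

theorem ff9 : U.fixFrom 4 9 3 = true := by decide +kernel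

theorem ff10 : U.fixFrom 4 9 5 = true := by decide +kernel

theorem ff11 : U.fixFrom 4 9 7 = true := by decide +kernel

theorem ff12 : U.fixFrom 4 9 9 = true := by decide +kernel

theorem ff13 : U.fixFrom 4 9 11 = true := by decide +kernel

theorem ff14 : U.fixFrom 4 9 13 = true := by decide +kernel

end Cfsg.Agent.Spor.An9.S
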